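import Groth.Agent.Lib.Helper4.FlatRing
import Groth.Agent.Lib.Helper4.RegCM
import Groth.Agent.Lib.Lead.HZDepthA

/-!
# Descent of `depth = dim` along a flat local homomorphism into a regular local ring (helper2)
-/

set_option autoImplicit false
set_option linter.style.haveILetI false
universe u
open IsLocalRing

namespace Groth.Agent.Lib.Helper2.HomogG

open Groth.Agent.Lib.Helper4 Groth.Agent.Lib.Helper4.FlatRing

section

variable (A B : Type u) [CommRing A] [CommRing B] [IsLocalRing A] [IsLocalRing B]
  [IsNoetherianRing A] [IsNoetherianRing B] [Algebra A B] [IsLocalHom (algebraMap A B)]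
  [Module.Flat A B]

theorem enat_arith (a f dA dF : ℕ∞) (d : ℕ) (h1 : a ≤ dA) (h2 : f ≤ dF)
    (h3 : (d : ℕ∞) = a + f) (h4 : (d : ℕ∞) = dA + dF) : a = dA := by
  have hdA : dA ≠ ⊤ := fun h => by rw [h, top_add] at h4; exact ENat.coe_ne_top d h4
  have hdF : dF ≠ ⊤ := fun h => by rw [h, add_top] at h4; exact ENat.coe_ne_top d h4
  have ha : a ≠ ⊤ := fun h => by rw [h, top_add] at h3; exact ENat.coe_ne_top d h3
  have hf : f ≠ ⊤ := fun h => by rw [h, add_top] at h3; exact ENat.coe_ne_top d h3
  lift dA to ℕ using hdA
  lift dF to ℕ using hdF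
  lift a to ℕ using ha
  lift f to ℕ using hf
  norm_cast at *
  omega

/-- if `A → B` is flat local and `B` is regular, then `depth A = dim A`. -/
theorem depth_eq_height_of_flat_of_regular [IsRegularLocalRing B] :
    LocCoh.depth A A = (maximalIdeal A).height := by
  have hne : (maximalIdeal A).map (algebraMap A B) ≠ ⊤ := by
    intro h
    have hle : (maximalIdeal A).map (algebraMap A B) ≤ maximalIdeal B := by
      rw [Ideal.map_le_iff_le_comap, IsLocalRing.maximalIdeal_comap (algebraMap A B)]
    rw [h] at hle
    exact (maximalIdeal.isMaximal B).ne_top (top_le_iff.mp hle)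
  haveI : Nontrivial (B ⧸ (maximalIdeal A).map (algebraMap A B)) :=
    Ideal.Quotient.nontrivial_iff.mpr hne
  haveI : IsLocalRing (B ⧸ (maximalIdeal A).map (algebraMap A B)) :=
    IsLocalRing.of_surjective' (Ideal.Quotient.mk _) Ideal.Quotient.mk_surjective
  have hdep := depth_eq_add_fibRing A B
  have hht := height_eq_add_fibRing A B
  obtain ⟨d, hd⟩ := RegCM.exists_nat_ringKrullDim B
  have hreg := RegCM.depth_eq_ringKrullDim B
  have h1 : LocCoh.depth B B = (d : ℕ∞) := by
    rw [hd] at hreg
    exact_mod_cast hreg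
  have h2 : (maximalIdeal B).height = (d : ℕ∞) := by
    have := IsLocalRing.maximalIdeal_height_eq_ringKrullDim (R := B)
    rw [hd] at this
    exact_mod_cast this
  exact enat_arith _ _ _ _ d depth_self_le_height depth_self_le_height
    (h1.symm.trans hdep) (h2.symm.trans hht)

end

end Groth.Agent.Lib.Helper2.HomogG
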