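import Groth.Agent.Lib.Helper2.HomogG.Flat
import Groth.Agent.Lib.Helper2.HomogG.CMDescent
import Groth.Agent.Lib.Lead.ProjTop
import Groth.Agent.Lib.Helper4.FlatFibre

/-!
# The local rings of projective space over a field satisfy `depth = dim` (helper2)
-/

set_option autoImplicit false
set_option linter.style.haveILetI false
universe u
open IsLocalRing AlgebraicGeometry MvPolynomial HomogeneousLocalization

noncomputable section

namespace Groth.Agent.Lib.Helper2.HomogG

variable (k : Type u) [Field k] (N : ℕ)

/-- the homogeneous localisation of `k[x_0..x_N]` at a relevant homogeneous prime satisfies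
`depth = ht 𝔪`. -/
theorem depth_atPrime_poly (x : ProjectiveSpectrum (CohB1.polyGrading N k)) :
    LocCoh.depth (AtPrime (CohB1.polyGrading N k) x.asHomogeneousIdeal.toIdeal)
        (AtPrime (CohB1.polyGrading N k) x.asHomogeneousIdeal.toIdeal) =
      (maximalIdeal (AtPrime (CohB1.polyGrading N k) x.asHomogeneousIdeal.toIdeal)).height := by
  obtain ⟨i, hi⟩ := Groth.Agent.Lib.Lead.ProjTop.exists_X_notMem k N x
  haveI : IsNoetherianRing (AtPrime (CohB1.polyGrading N k) x.asHomogeneousIdeal.toIdeal) :=
    isNoetherianRing_atPrime (CohB1.polyGrading N k) x.asHomogeneousIdeal.toIdeal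
  haveI : Module.Flat (AtPrime (CohB1.polyGrading N k) x.asHomogeneousIdeal.toIdeal)
      (Localization.AtPrime x.asHomogeneousIdeal.toIdeal) :=
    flat_atPrime (CohB1.polyGrading N k) x.asHomogeneousIdeal.toIdeal (d := 0) (f := 1)
      (f' := X i) SetLike.GradedOne.one_mem
      (fun h => x.isPrime.ne_top ((Ideal.eq_top_iff_one _).mpr h))
      (by
        show (X i : MvPolynomial (Fin (N + 1)) k) ∈ homogeneousSubmodule (Fin (N + 1)) k 1
        rw [mem_homogeneousSubmodule]
        exact isHomogeneous_X k i) hi
  haveI : IsRegularLocalRing (Localization.AtPrime x.asHomogeneousIdeal.toIdeal) :=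
    IsRegularRing.isRegularLocalRing_localization _
  exact depth_eq_height_of_flat_of_regular _ (Localization.AtPrime x.asHomogeneousIdeal.toIdeal)

/-- **the local rings of `P^N_k` satisfy `depth = dim`.** -/
theorem depth_stalk_projSpace (x : CohB1.ProjSpace N k) :
    ((LocCoh.depth ((CohB1.ProjSpace N k).presheaf.stalk x)
      ((CohB1.ProjSpace N k).presheaf.stalk x) : ℕ∞) : WithBot ℕ∞) =
      ringKrullDim ((CohB1.ProjSpace N k).presheaf.stalk x) := by
  let e : (CohB1.ProjSpace N k).presheaf.stalk x ≃+*
      AtPrime (CohB1.polyGrading N k)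
        (show ProjectiveSpectrum (CohB1.polyGrading N k) from x).asHomogeneousIdeal.toIdeal :=
    (Proj.stalkIso (CohB1.polyGrading N k) x).commRingCatIsoToRingEquiv
  rw [Groth.Agent.Lib.Helper4.FlatFibre.depth_eq_of_ringEquiv e, ringKrullDim_eq_of_ringEquiv e,
    depth_atPrime_poly k N x, IsLocalRing.maximalIdeal_height_eq_ringKrullDim]

end Groth.Agent.Lib.Helper2.HomogG
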