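import Mathlib

/-!
# Homogeneous localisation at a prime versus the full localisation (helper26)

For an `ℕ`-graded ring `A` and a prime `p`, we compare `A_(p)` (degree-zero fractions with
homogeneous denominators outside `p`) with `A_p`:
* every ideal of `A_(p)` is contracted from `A_p` (`comap_map_algebraMap`);
* `A_(p)` is Noetherian if `A` is;
* primes of `A_(p)` come from homogeneous primes of `A` inside `p`, and `dim A_(p) ≤ dim A_p`
  when some homogeneous element of positive degree lies outside `p`.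
-/

set_option autoImplicit false
universe u
open HomogeneousLocalization DirectSum

namespace Groth.Agent.Lib.Helper2.HomogG

noncomputable section

variable {A : Type u} [CommRing A] {σ : Type*} [SetLike σ A] [AddSubgroupClass σ A] (𝒜 : ℕ → σ) [GradedRing 𝒜]
  (p : Ideal A) [hpp : p.IsPrime]

/-- the degree-zero fraction `a/t`. -/
def mkO (n : ℕ) (a t : A) (ha : a ∈ 𝒜 n) (ht : t ∈ 𝒜 n) (htp : t ∉ p) :
    HomogeneousLocalization.AtPrime 𝒜 p :=
  HomogeneousLocalization.mk ⟨n, ⟨a, ha⟩, ⟨t, ht⟩, htp⟩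

lemma val_mkO (n : ℕ) (a t : A) (ha : a ∈ 𝒜 n) (ht : t ∈ 𝒜 n) (htp : t ∉ p) :
    (mkO 𝒜 p n a t ha ht htp).val = Localization.mk a ⟨t, htp⟩ := rfl

lemma exists_mkO (z : HomogeneousLocalization.AtPrime 𝒜 p) :
    ∃ (n : ℕ) (a t : A) (ha : a ∈ 𝒜 n) (ht : t ∈ 𝒜 n) (htp : t ∉ p),
      z = mkO 𝒜 p n a t ha ht htp := by
  obtain ⟨⟨n, ⟨a, ha⟩, ⟨t, ht⟩, htp⟩, rfl⟩ := HomogeneousLocalization.mk_surjective z
  exact ⟨n, a, t, ha, ht, htp, rfl⟩

lemma isUnit_algebraMap {t : A} (ht : t ∉ p) :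
    IsUnit (algebraMap A (Localization.AtPrime p) t) :=
  IsLocalization.map_units (Localization.AtPrime p) (⟨t, ht⟩ : p.primeCompl)

lemma eq_of_mul_algebraMap {ℓ ℓ' : Localization.AtPrime p} {t : A} (ht : t ∉ p)
    (h : ℓ * algebraMap A (Localization.AtPrime p) t =
      ℓ' * algebraMap A (Localization.AtPrime p) t) : ℓ = ℓ' :=
  (isUnit_algebraMap p ht).mul_left_injective h

lemma mul_notMem {s t : A} (hs : s ∉ p) (ht : t ∉ p) : s * t ∉ p :=
  fun h => (hpp.mem_or_mem h).elim hs ht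

lemma val_mkO_mul (n : ℕ) (a t : A) (ha : a ∈ 𝒜 n) (ht : t ∈ 𝒜 n) (htp : t ∉ p) :
    (mkO 𝒜 p n a t ha ht htp).val * algebraMap A (Localization.AtPrime p) t =
      algebraMap A (Localization.AtPrime p) a := by
  rw [val_mkO, Localization.mk_eq_mk']
  exact IsLocalization.mk'_spec _ a (⟨t, htp⟩ : p.primeCompl)

lemma mkO_eq_of_mul_eq {n n' : ℕ} {a t a' t' : A} (ha : a ∈ 𝒜 n) (ht : t ∈ 𝒜 n) (htp : t ∉ p)
    (ha' : a' ∈ 𝒜 n') (ht' : t' ∈ 𝒜 n') (htp' : t' ∉ p) (h : a * t' = a' * t) :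
    mkO 𝒜 p n a t ha ht htp = mkO 𝒜 p n' a' t' ha' ht' htp' := by
  apply HomogeneousLocalization.val_injective
  apply eq_of_mul_algebraMap p (mul_notMem p htp htp')
  have h1 : (mkO 𝒜 p n a t ha ht htp).val * algebraMap A (Localization.AtPrime p) (t * t') =
      algebraMap A (Localization.AtPrime p) (a * t') := by
    rw [map_mul, ← mul_assoc, val_mkO_mul, ← map_mul]
  have h2 : (mkO 𝒜 p n' a' t' ha' ht' htp').val *
      algebraMap A (Localization.AtPrime p) (t * t') =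
      algebraMap A (Localization.AtPrime p) (a' * t) := by
    rw [mul_comm t t', map_mul, ← mul_assoc, val_mkO_mul, ← map_mul]
  rw [h1, h2, h]

lemma mkO_eq_zero {n : ℕ} {a t : A} {ha : a ∈ 𝒜 n} {ht : t ∈ 𝒜 n} {htp : t ∉ p} (h : a = 0) :
    mkO 𝒜 p n a t ha ht htp = 0 := by
  apply HomogeneousLocalization.val_injective
  apply eq_of_mul_algebraMap p htp
  rw [val_mkO_mul, HomogeneousLocalization.val_zero, h, map_zero, zero_mul]

lemma mkO_eq_add {n : ℕ} {a b c t : A} (ha : a ∈ 𝒜 n) (hb : b ∈ 𝒜 n) (hc : c ∈ 𝒜 n)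
    (ht : t ∈ 𝒜 n) (htp : t ∉ p) (h : a = b + c) :
    mkO 𝒜 p n a t ha ht htp = mkO 𝒜 p n b t hb ht htp + mkO 𝒜 p n c t hc ht htp := by
  apply HomogeneousLocalization.val_injective
  apply eq_of_mul_algebraMap p htp
  rw [HomogeneousLocalization.val_add, add_mul, val_mkO_mul, val_mkO_mul, val_mkO_mul, h, map_add]

lemma mkO_mul_mkO {n m : ℕ} {a t b s : A} (ha : a ∈ 𝒜 n) (ht : t ∈ 𝒜 n) (htp : t ∉ p)
    (hb : b ∈ 𝒜 m) (hs : s ∈ 𝒜 m) (hsp : s ∉ p) :
    mkO 𝒜 p n a t ha ht htp * mkO 𝒜 p m b s hb hs hsp =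
      mkO 𝒜 p (n + m) (a * b) (t * s) (SetLike.mul_mem_graded ha hb)
        (SetLike.mul_mem_graded ht hs) (mul_notMem p htp hsp) := by
  apply HomogeneousLocalization.val_injective
  apply eq_of_mul_algebraMap p (mul_notMem p htp hsp)
  rw [HomogeneousLocalization.val_mul, val_mkO_mul, map_mul, mul_mul_mul_comm, val_mkO_mul,
    val_mkO_mul, map_mul]

/-! ### The homogeneous ideal of numerators -/

/-- `x` lies in the homogeneous ideal of numerators of `I`. -/
def NumPred (I : Ideal (HomogeneousLocalization.AtPrime 𝒜 p)) (x : A) : Prop :=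
  ∀ (i j : ℕ) (r t : A) (hr : r ∈ 𝒜 j) (ht : t ∈ 𝒜 (j + i)) (htp : t ∉ p),
    mkO 𝒜 p (j + i) (r * (decompose 𝒜 x i : A)) t
      (SetLike.mul_mem_graded hr (SetLike.coe_mem _)) ht htp ∈ I

lemma numPred_zero (I : Ideal (HomogeneousLocalization.AtPrime 𝒜 p)) : NumPred 𝒜 p I 0 := by
  intro i j r t hr ht htp
  have h0 : r * ((decompose 𝒜 (0 : A) i : 𝒜 i) : A) = 0 := by
    rw [decompose_zero, DirectSum.zero_apply, ZeroMemClass.coe_zero, mul_zero]
  rw [mkO_eq_zero 𝒜 p h0]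
  exact I.zero_mem

lemma numPred_add (I : Ideal (HomogeneousLocalization.AtPrime 𝒜 p)) {x y : A}
    (hx : NumPred 𝒜 p I x) (hy : NumPred 𝒜 p I y) : NumPred 𝒜 p I (x + y) := by
  intro i j r t hr ht htp
  have h : r * ((decompose 𝒜 (x + y) i : 𝒜 i) : A) =
      r * (decompose 𝒜 x i : A) + r * (decompose 𝒜 y i : A) := by
    rw [decompose_add, DirectSum.add_apply, AddMemClass.coe_add, mul_add]
  rw [mkO_eq_add 𝒜 p _ (SetLike.mul_mem_graded hr (SetLike.coe_mem _))
    (SetLike.mul_mem_graded hr (SetLike.coe_mem _)) ht htp h]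
  exact I.add_mem (hx i j r t hr ht htp) (hy i j r t hr ht htp)

lemma numPred_mul_of_mem (I : Ideal (HomogeneousLocalization.AtPrime 𝒜 p)) {x c : A} {k : ℕ}
    (hc : c ∈ 𝒜 k) (hx : NumPred 𝒜 p I x) : NumPred 𝒜 p I (c * x) := by
  intro i j r t hr ht htp
  by_cases hki : k ≤ i
  · have hcomp : ((decompose 𝒜 (c * x) i : 𝒜 i) : A) = c * (decompose 𝒜 x (i - k) : A) :=
      DirectSum.coe_decompose_mul_of_left_mem_of_le 𝒜 hc hki
    have hdeg : (j + k) + (i - k) = j + i := by omega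
    have ht' : t ∈ 𝒜 ((j + k) + (i - k)) := by rw [hdeg]; exact ht
    have hmem := hx (i - k) (j + k) (r * c) t (SetLike.mul_mem_graded hr hc) ht' htp
    have heq : mkO 𝒜 p (j + i) (r * (decompose 𝒜 (c * x) i : A)) t
        (SetLike.mul_mem_graded hr (SetLike.coe_mem _)) ht htp =
        mkO 𝒜 p ((j + k) + (i - k)) (r * c * (decompose 𝒜 x (i - k) : A)) t
          (SetLike.mul_mem_graded (SetLike.mul_mem_graded hr hc) (SetLike.coe_mem _)) ht' htp :=
      mkO_eq_of_mul_eq 𝒜 p _ _ _ _ _ _ (by rw [hcomp]; ring)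
    rw [heq]
    exact hmem
  · have hcomp : ((decompose 𝒜 (c * x) i : 𝒜 i) : A) = 0 :=
      DirectSum.coe_decompose_mul_of_left_mem_of_not_le 𝒜 hc hki
    rw [mkO_eq_zero 𝒜 p (by rw [hcomp, mul_zero])]
    exact I.zero_mem

lemma numPred_mul (I : Ideal (HomogeneousLocalization.AtPrime 𝒜 p)) (c : A) {x : A}
    (hx : NumPred 𝒜 p I x) : NumPred 𝒜 p I (c * x) := by
  revert c
  refine DirectSum.Decomposition.inductionOn 𝒜 ?_ ?_ ?_
  · rw [zero_mul]; exact numPred_zero 𝒜 p I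
  · intro k c; exact numPred_mul_of_mem 𝒜 p I c.2 hx
  · intro c c' hc hc'; rw [add_mul]; exact numPred_add 𝒜 p I hc hc'

/-- The homogeneous ideal of `A` of numerators of `I`. -/
def numIdeal (I : Ideal (HomogeneousLocalization.AtPrime 𝒜 p)) : Ideal A where
  carrier := {x | NumPred 𝒜 p I x}
  add_mem' hx hy := numPred_add 𝒜 p I hx hy
  zero_mem' := numPred_zero 𝒜 p I
  smul_mem' c x hx := by
    change NumPred 𝒜 p I (c • x)
    rw [smul_eq_mul]
    exact numPred_mul 𝒜 p I c hx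

lemma numPred_num (I : Ideal (HomogeneousLocalization.AtPrime 𝒜 p)) {n : ℕ} {b t : A}
    (hb : b ∈ 𝒜 n) (ht : t ∈ 𝒜 n) (htp : t ∉ p) (hy : mkO 𝒜 p n b t hb ht htp ∈ I) :
    NumPred 𝒜 p I b := by
  intro i j r t' hr ht' htp'
  by_cases hin : n = i
  · subst hin
    have hcomp : ((decompose 𝒜 b n : 𝒜 n) : A) = b := decompose_of_mem_same 𝒜 hb
    have heq : mkO 𝒜 p (j + n) (r * (decompose 𝒜 b n : A)) t'
        (SetLike.mul_mem_graded hr (SetLike.coe_mem _)) ht' htp' =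
        mkO 𝒜 p n b t hb ht htp *
          mkO 𝒜 p (j + n) (r * t) t' (SetLike.mul_mem_graded hr ht) ht' htp' := by
      rw [mkO_mul_mkO 𝒜 p]
      exact mkO_eq_of_mul_eq 𝒜 p _ _ _ _ _ _ (by rw [hcomp]; ring)
    rw [heq]
    exact I.mul_mem_right _ hy
  · have hcomp : ((decompose 𝒜 b i : 𝒜 i) : A) = 0 := decompose_of_mem_ne 𝒜 hb hin
    rw [mkO_eq_zero 𝒜 p (by rw [hcomp, mul_zero])]
    exact I.zero_mem

lemma exists_decompose_notMem {g : A} (hg : g ∉ p) :
    ∃ j, ((decompose 𝒜 g j : 𝒜 j) : A) ∉ p := by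
  classical
  by_contra hcon
  rw [not_exists] at hcon
  apply hg
  rw [← DirectSum.sum_support_decompose 𝒜 g]
  exact Ideal.sum_mem _ fun j _ => not_not.mp (hcon j)

lemma mem_of_mul_mem_numIdeal (I : Ideal (HomogeneousLocalization.AtPrime 𝒜 p)) {e : ℕ}
    {a t : A} (ha : a ∈ 𝒜 e) (ht : t ∈ 𝒜 e) (htp : t ∉ p) {g : A} (hg : g ∉ p)
    (hga : g * a ∈ numIdeal 𝒜 p I) : mkO 𝒜 p e a t ha ht htp ∈ I := by
  obtain ⟨j, hj⟩ := exists_decompose_notMem 𝒜 p hg
  have hga' : NumPred 𝒜 p I (g * a) := hga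
  have hcomp : ((decompose 𝒜 (g * a) (j + e) : 𝒜 (j + e)) : A) = (decompose 𝒜 g j : A) * a :=
    DirectSum.coe_decompose_mul_add_of_right_mem 𝒜 ha
  have hgt : (decompose 𝒜 g j : A) * t ∈ 𝒜 (0 + (j + e)) := by
    rw [zero_add]; exact SetLike.mul_mem_graded (SetLike.coe_mem _) ht
  have hmem := hga' (j + e) 0 1 ((decompose 𝒜 g j : A) * t) SetLike.GradedOne.one_mem hgt
    (mul_notMem p hj htp)
  have heq : mkO 𝒜 p e a t ha ht htp =
      mkO 𝒜 p (0 + (j + e)) (1 * (decompose 𝒜 (g * a) (j + e) : A)) ((decompose 𝒜 g j : A) * t)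
        (SetLike.mul_mem_graded SetLike.GradedOne.one_mem (SetLike.coe_mem _)) hgt
        (mul_notMem p hj htp) :=
    mkO_eq_of_mul_eq 𝒜 p _ _ _ _ _ _ (by rw [hcomp]; ring)
  rw [heq]
  exact hmem

/-- Every ideal of `A_(p)` is contracted from `A_p`. -/
theorem comap_map_algebraMap (I : Ideal (HomogeneousLocalization.AtPrime 𝒜 p)) :
    (I.map (algebraMap (HomogeneousLocalization.AtPrime 𝒜 p) (Localization.AtPrime p))).comap
      (algebraMap (HomogeneousLocalization.AtPrime 𝒜 p) (Localization.AtPrime p)) = I := by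
  refine le_antisymm ?_ Ideal.le_comap_map
  have hle : I.map (algebraMap (HomogeneousLocalization.AtPrime 𝒜 p) (Localization.AtPrime p)) ≤
      (numIdeal 𝒜 p I).map (algebraMap A (Localization.AtPrime p)) := by
    rw [Ideal.map_le_iff_le_comap]
    intro y hy
    obtain ⟨n, b, t, hb, ht, htp, rfl⟩ := exists_mkO 𝒜 p y
    rw [Ideal.mem_comap, HomogeneousLocalization.algebraMap_apply, val_mkO,
      Localization.mk_eq_mk', IsLocalization.mk'_mem_map_algebraMap_iff p.primeCompl]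
    refine ⟨1, Submonoid.one_mem _, ?_⟩
    rw [one_mul]
    exact numPred_num 𝒜 p I hb ht htp hy
  intro z hz
  obtain ⟨e, a, t, ha, ht, htp, rfl⟩ := exists_mkO 𝒜 p z
  have hz' := hle (Ideal.mem_comap.mp hz)
  rw [HomogeneousLocalization.algebraMap_apply, val_mkO, Localization.mk_eq_mk',
    IsLocalization.mk'_mem_map_algebraMap_iff p.primeCompl] at hz'
  obtain ⟨g, hg, hga⟩ := hz'
  exact mem_of_mul_mem_numIdeal 𝒜 p I ha ht htp hg hga

/-- `A_(p)` is Noetherian when `A` is. -/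
theorem isNoetherianRing_atPrime [IsNoetherianRing A] :
    IsNoetherianRing (HomogeneousLocalization.AtPrime 𝒜 p) := by
  have hL : IsNoetherianRing (Localization.AtPrime p) :=
    IsLocalization.isNoetherianRing p.primeCompl _ inferInstance
  rw [isNoetherianRing_iff, isNoetherian_iff'] at hL ⊢
  have hmono : StrictMono (Ideal.map
      (algebraMap (HomogeneousLocalization.AtPrime 𝒜 p) (Localization.AtPrime p))) := by
    intro I J hIJ
    refine lt_of_le_of_ne (Ideal.map_mono hIJ.le) fun h => hIJ.ne ?_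
    rw [← comap_map_algebraMap 𝒜 p I, ← comap_map_algebraMap 𝒜 p J, h]
  exact hmono.wellFoundedGT

end

end Groth.Agent.Lib.Helper2.HomogG
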